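import Cfsg.Agent.H328.Gow.NirrB

/-!
# S4891, row `PSU_3` in defining characteristic: Hermitian forms in dimension three (helper476)

* `opp_of_ne` : in dimension at most three distinct singular points are opposite;
* `exists_qref` : quasi-reflections; `exists_tor` : the full torus;
* `isIrr_three` : irreducibility of `hcf F c` for a linear character `c` with `c ≠ c ∘ ι` on the torus;
* `card_mod` : the number of singular points is `1` modulo `p`.
-/

set_option autoImplicit false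
set_option linter.style.haveILetI false

open scoped ComplexConjugate
open Cfsg

namespace Cfsg.Agent.H476.OC

open Cfsg.Agent.OddOrderCharacters.Clifford Cfsg.Agent.Characters MulAction Module Cfsg.Agent.H53.HC
  Cfsg.Agent.H477.HC Cfsg.Agent.H477.HC.CForm Cfsg.Agent.H328.Gow

universe u v

variable {K : Type u} [Field K] {V : Type v} [AddCommGroup V] [Module K V] (F : CForm K V)

/-- orthogonal singular points coincide in dimension three -/
theorem eq_of_perp [FiniteDimensional K V] (h3 : finrank K V ≤ 3) {W W' : Submodule K V} (hW : W ∈ F.Om 1)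
    (hW' : W' ∈ F.Om 1) (h : W ≤ F.perp W') : W = W' := by
  by_contra hne
  have hTS := F.TS_sup hW.1 hW'.1 h
  have h0 : W ⊓ W' = ⊥ := by
    have h1 : finrank K (W ⊓ W' : Submodule K V) < finrank K W := by
      apply Submodule.finrank_lt_finrank_of_lt
      refine lt_of_le_of_ne inf_le_left fun he => hne ?_
      apply Submodule.eq_of_le_of_finrank_eq (inf_eq_left.1 he)
      rw [hW.2, hW'.2]
    rw [hW.2] at h1
    exact Submodule.finrank_eq_zero.1 (by omega)
  have h2 : finrank K (W ⊔ W' : Submodule K V) = 2 := by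
    have := Submodule.finrank_sup_add_finrank_inf_eq W W'
    rw [h0, finrank_bot, hW.2, hW'.2] at this
    omega
  obtain ⟨U, hU, hopp⟩ := F.exists_opp (k := 2) (W := W ⊔ W') ⟨hTS, h2⟩
  have h3' : (W ⊔ W') ⊓ U = ⊥ := by
    rw [eq_bot_iff, ← hopp]
    exact inf_le_inf_left _ hU.1.le_perp
  have h4 := Submodule.finrank_sup_add_finrank_inf_eq (W ⊔ W') U
  rw [h3', finrank_bot, h2, hU.2] at h4
  have h5 := Submodule.finrank_le ((W ⊔ W') ⊔ U)
  omega

/-- **distinct singular points are opposite in dimension three** -/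
theorem opp_of_ne [FiniteDimensional K V] (h3 : finrank K V ≤ 3) {W W' : Submodule K V} (hW : W ∈ F.Om 1)
    (hW' : W' ∈ F.Om 1) (hne : W ≠ W') : W ⊓ F.perp W' = ⊥ := by
  by_contra h0
  have h1 : W ⊓ F.perp W' = W := by
    apply Submodule.eq_of_le_of_finrank_le inf_le_left
    rw [hW.2]
    by_contra hlt
    push Not at hlt
    exact h0 (Submodule.finrank_eq_zero.1 (by omega))
  exact hne (eq_of_perp F h3 hW hW' (inf_eq_left.1 h1))

/-- **quasi-reflections** -/
theorem exists_qref [FiniteDimensional K V] (hε : F.ε = 1) (hQ : ∀ v, F.Q v = F.B v v) {w : V} (hw : F.B w w ≠ 0)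
    {s : Kˣ} (hs : (s : K) * F.σ s = 1) :
    ∃ g : F.iso, (∀ v, (g : V ≃ₗ[K] V) v = v + (((s : K) - 1) * (F.B w w)⁻¹ * F.B v w) • w) ∧
      LinearMap.det ((g : V ≃ₗ[K] V) : V →ₗ[K] V) = s := by
  have hsym : ∀ u v, F.σ (F.B u v) = F.B v u := fun u v => by
    rw [F.B_symm v u, hε, one_mul]
  let φ : Dual K V := (((s : K) - 1) * (F.B w w)⁻¹) • F.lf w
  let T : V →ₗ[K] V := LinearMap.transvection φ w
  have hT : ∀ v, T v = v + (((s : K) - 1) * (F.B w w)⁻¹ * F.B v w) • w := fun v => by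
    change LinearMap.transvection φ w v = _
    rw [LinearMap.transvection.apply]
    rfl
  have hdet : LinearMap.det T = s := by
    change LinearMap.det (LinearMap.transvection φ w) = _
    rw [LinearMap.transvection.det]
    change 1 + (((s : K) - 1) * (F.B w w)⁻¹) • F.B w w = _
    rw [smul_eq_mul, mul_assoc, inv_mul_cancel₀ hw]
    ring
  have hTB : ∀ u v, F.B (T u) (T v) = F.B u v := by
    intro u v
    rw [hT, hT]
    simp only [F.B_add_left, F.B_add_right, F.B_smul_left, F.B_smul_right, map_mul, map_sub, map_one, map_inv₀, hsym]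
    field_simp
    linear_combination (F.B u w * F.B w v) * hs
  obtain ⟨g, hg⟩ := F.exists_iso T hTB fun v => by rw [hQ, hQ, hTB]
  refine ⟨g, fun v => by rw [hg, hT], ?_⟩
  rw [← hdet]
  congr 1
  ext v
  exact hg v

/-- an anisotropic vector orthogonal to a hyperbolic pair -/
theorem exists_aniso [FiniteDimensional K V] (h3 : finrank K V = 3) (hQ : ∀ v, F.Q v = F.B v v) {e f : V}
    (he : F.Sing e) (hef : F.B e f = 1) : ∃ w, F.B w w ≠ 0 ∧ F.B w e = 0 ∧ F.B w f = 0 := by
  have hr := LinearMap.finrank_range_add_finrank_ker ((F.lf e).prod (F.lf f))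
  have hr' := Submodule.finrank_le (LinearMap.range ((F.lf e).prod (F.lf f)))
  rw [Module.finrank_prod, Module.finrank_self] at hr'
  have h4 : 0 < finrank K (LinearMap.ker ((F.lf e).prod (F.lf f))) := by omega
  rw [Module.finrank_pos_iff_exists_ne_zero] at h4
  obtain ⟨⟨x, hx⟩, hx0⟩ := h4
  rw [LinearMap.mem_ker] at hx
  have hx1 : F.B x e = 0 := congrArg Prod.fst hx
  have hx2 : F.B x f = 0 := congrArg Prod.snd hx
  have hx0' : x ≠ 0 := fun h => hx0 (Subtype.ext h)
  have he0 : e ≠ 0 := by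
    rintro rfl
    rw [F.B_zero_left] at hef
    exact zero_ne_one hef
  refine ⟨x, fun hxx => ?_, hx1, hx2⟩
  have hOm : ∀ y : V, y ≠ 0 → F.B y y = 0 → (K ∙ y) ∈ F.Om 1 := by
    intro y hy hyy
    refine ⟨⟨?_, ?_⟩, finrank_span_singleton hy⟩
    · intro w hw
      obtain ⟨a, rfl⟩ := Submodule.mem_span_singleton.1 hw
      rw [F.Q_smul, hQ, hyy, mul_zero]
    · intro w hw w' hw'
      obtain ⟨a, rfl⟩ := Submodule.mem_span_singleton.1 hw
      obtain ⟨b, rfl⟩ := Submodule.mem_span_singleton.1 hw'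
      rw [F.B_smul_left, F.B_smul_right, hyy, mul_zero, mul_zero]
  have h5 := eq_of_perp F h3.le (hOm x hx0' hxx) (hOm e he0 he.2) (by
    intro y hy w hw
    obtain ⟨a, rfl⟩ := Submodule.mem_span_singleton.1 hy
    obtain ⟨b, rfl⟩ := Submodule.mem_span_singleton.1 hw
    rw [F.B_smul_left, F.B_smul_right, hx1, mul_zero, mul_zero])
  have h6 : x ∈ (K ∙ e) := h5 ▸ Submodule.mem_span_singleton_self x
  obtain ⟨a, rfl⟩ := Submodule.mem_span_singleton.1 h6
  rw [F.B_smul_left, hef, mul_one] at hx2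
  apply hx0'
  rw [hx2, zero_smul]

/-- **the full torus**: `e ↦ t e`, `f ↦ σ(t)⁻¹ f`, determinant one -/
theorem exists_tor [FiniteDimensional K V] (h3 : finrank K V = 3) (hε : F.ε = 1) (hQ : ∀ v, F.Q v = F.B v v)
    {e f : V} (he : F.Sing e) (hf : F.Sing f) (hef : F.B e f = 1) (t : Kˣ) :
    ∃ g : F.iso, (g : V ≃ₗ[K] V) e = (t : K) • e ∧ (g : V ≃ₗ[K] V) f = (F.σ t)⁻¹ • f ∧
      LinearMap.det ((g : V ≃ₗ[K] V) : V →ₗ[K] V) = 1 := by
  have hσ0 : F.σ t ≠ 0 := (map_ne_zero F.σ).2 t.ne_zero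
  obtain ⟨w, hw, hwe, hwf⟩ := exists_aniso F h3 hQ he hef
  have hs0 : F.σ t * (t : K)⁻¹ ≠ 0 := mul_ne_zero hσ0 (inv_ne_zero t.ne_zero)
  obtain ⟨r, hr, hr'⟩ := exists_qref F hε hQ hw (s := Units.mk0 _ hs0) (by
    rw [Units.val_mk0, map_mul, F.σσ, map_inv₀]
    field_simp)
  obtain ⟨d, hd, hd'⟩ := exists_dil F he hf hef t
  have hfe : F.B f e = 1 := by rw [F.B_symm, hef, map_one, mul_one, hε]
  refine ⟨d * r, ?_, ?_, ?_⟩
  · change (d : V ≃ₗ[K] V) ((r : V ≃ₗ[K] V) e) = _
    rw [hr, F.B_eq_zero hwe, mul_zero, zero_smul, add_zero, hd, hef, he.2]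
    module
  · change (d : V ≃ₗ[K] V) ((r : V ≃ₗ[K] V) f) = _
    rw [hr, F.B_eq_zero hwf, mul_zero, zero_smul, add_zero, hd, hf.2, hfe, hε, inv_one]
    module
  · change LinearMap.det (((d : V ≃ₗ[K] V) : V →ₗ[K] V) ∘ₗ ((r : V ≃ₗ[K] V) : V →ₗ[K] V)) = 1
    rw [LinearMap.det_comp, hd', hr', Units.val_mk0]
    field_simp

/-- **irreducibility in dimension three** -/
theorem isIrr_three [Finite K] [FiniteDimensional K V] [Finite V] [Fintype F.iso] (h3 : finrank K V = 3)
    (hε : F.ε = 1) (hQ : ∀ v, F.Q v = F.B v v)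
    (hdet : ∀ g : F.iso, ∃ a : Kˣ, LinearMap.det ((g : V ≃ₗ[K] V) : V →ₗ[K] V) = a * (F.σ a)⁻¹)
    [Fintype (F.Om 1)] {c : GL (Fin 1) K → ℂ} (hc : IsIrrCharacter _ c) (hc1 : c 1 = 1) {W₀ : Submodule K V}
    (hW₀ : W₀ ∈ F.Om 1) {t t' : Kˣ} (ht : (t' : K) = (F.σ t)⁻¹)
    (ht1 : c (Matrix.GeneralLinearGroup.scalar (Fin 1) t) ≠ c (Matrix.GeneralLinearGroup.scalar (Fin 1) t')) :
    IsIrrCharacter (sg F) (fun g : sg F => hcf F c g) := by
  classical
  have hcl := Core.isIrr_isClassFunction hc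
  have hcc := Core.isIrr_isCharacter hc
  let b₀ : Basis (Fin 1) K W₀ := finBasisOfFinrankEq K W₀ hW₀.2
  have hlin : ∀ (L : Subgroup F.iso) (f : L →* GL (Fin 1) K), IsIrrCharacter L (c ∘ f) := fun L f =>
    isIrr_of_one (Core.isCharacter_comp f hcc) (by rw [Function.comp_apply, map_one, hc1])
  -- the matrix of a scalar
  have hsc : ∀ (W : Submodule K V) (b : Basis (Fin 1) K W) (e : W ≃ₗ[K] W) (z : Kˣ),
      e (b 0) = (z : K) • b 0 → glE b e = Matrix.GeneralLinearGroup.scalar (Fin 1) z := by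
    intro W b e z hz
    ext i j
    have hi : i = 0 := Subsingleton.elim _ _
    have hj : j = 0 := Subsingleton.elim _ _
    subst hi
    subst hj
    rw [coe_glE, LinearMap.toMatrix_apply, LinearEquiv.coe_coe, hz, map_smul, Basis.repr_self,
      Matrix.GeneralLinearGroup.coe_scalar]
    simp
  refine isIrr_N F (sg F) hc hW₀ (trans_sg F hdet one_pos hW₀) ?_ fun W' hW' hne => ?_
  · have h1 := hlin _ ((glE b₀).toMonoidHom.comp ((resHom F.iso.subtype W₀).comp
      (Subgroup.inclusion (inf_le_right : sg F ⊓ stabW F.iso.subtype W₀ ≤ _))))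
    convert h1 using 1
    ext g
    rw [flagTerm_of F.iso.subtype c g.2.2, cl_eq hcl b₀]
    rfl
  · -- the element of the torus
    have h0 := opp_of_ne F h3.le hW₀ hW' (Ne.symm hne)
    obtain ⟨b, b', hb⟩ := CForm.exists_dual_basis hW₀.2 hW'.2 h0
    have hbb : F.B (b 0) (b' 0) = 1 := by rw [hb, if_pos rfl]
    obtain ⟨g, hg, hg', hgd⟩ := exists_tor F h3 hε hQ (hW₀.1.sing (b 0).2) (hW'.1.sing (b' 0).2) hbb t
    have hspan : ∀ (W : Submodule K V) (b : Basis (Fin 1) K W) (z : K), (g : V ≃ₗ[K] V) (b 0 : V) = z • (b 0 : V) →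
        W.map (F.iso.subtype g : V →ₗ[K] V) = W := by
      intro W b z hz
      refine map_eq_of_le F.iso.subtype fun w hw => ?_
      change (g : V ≃ₗ[K] V) w ∈ W
      have h1 := b.sum_repr ⟨w, hw⟩
      rw [Fin.sum_univ_one] at h1
      have h2 : w = b.repr ⟨w, hw⟩ 0 • (b 0 : V) := (congrArg Subtype.val h1).symm
      rw [h2, map_smul, hz]
      exact W.smul_mem _ (W.smul_mem _ (b 0).2)
    have hm := hspan W₀ b _ hg
    have hm' := hspan W' b' _ hg'
    refine van2_of_ne F (L := sg F ⊓ (stabW F.iso.subtype W₀ ⊓ stabW F.iso.subtype W')) hcl hcl inf_le_left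
      (inf_le_right.trans inf_le_left) (inf_le_right.trans inf_le_right) b b' (hlin _ _) (hlin _ _) fun h => ?_
    have h4 : c (glE b (res (F.iso.subtype g) W₀ hm)) = c (glE b' (res (F.iso.subtype g) W' hm')) :=
      congrFun h ⟨g, (mem_sg F).2 hgd, hm, hm'⟩
    rw [hsc W₀ b _ t (Subtype.ext hg), hsc W' b' _ t' (Subtype.ext (by rw [ht]; exact hg'))] at h4
    exact ht1 h4

/-- **the number of singular points is `1` modulo `p`** -/
theorem card_mod [Finite K] [FiniteDimensional K V] [Finite V] {p : ℕ} [Fact p.Prime] [CharP K p]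
    (h3 : finrank K V = 3) (hε : F.ε = 1) (hQ : ∀ v, F.Q v = F.B v v) (hσ : ∃ x, F.σ x ≠ x)
    {W₀ : Submodule K V} (hW₀ : W₀ ∈ F.Om 1) : ¬ p ∣ Nat.card (F.Om 1) := by
  classical
  have hfS : Finite (Submodule K V) := Finite.of_injective (fun W : Submodule K V => (W : Set V)) SetLike.coe_injective
  let _ : Fintype (F.Om 1) := Fintype.ofFinite _
  have hsym : ∀ u v, F.σ (F.B u v) = F.B v u := fun u v => by
    rw [F.B_symm v u, hε, one_mul]
  obtain ⟨x, hx⟩ := hσ
  obtain ⟨a, ha0, ha⟩ : ∃ a : K, a ≠ 0 ∧ F.σ a = -a :=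
    ⟨x - F.σ x, sub_ne_zero.2 (Ne.symm hx), by rw [map_sub, F.σσ]; ring⟩
  let b₀ : Basis (Fin 1) K W₀ := finBasisOfFinrankEq K W₀ hW₀.2
  obtain ⟨e, he⟩ : ∃ e : V, e = b₀ 0 := ⟨_, rfl⟩
  have heW : e ∈ W₀ := he ▸ (b₀ 0).2
  have he0 : e ≠ 0 := by
    rw [he]
    intro h
    exact b₀.ne_zero 0 (Subtype.ext h)
  have hes := hW₀.1.sing heW
  have hspan : (K ∙ e) = W₀ := by
    apply Submodule.eq_of_le_of_finrank_eq ((Submodule.span_singleton_le_iff_mem _ _).2 heW)
    rw [finrank_span_singleton he0, hW₀.2]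
  let T : V →ₗ[K] V := LinearMap.transvection (a • F.lf e) e
  have hT : ∀ v, T v = v + (a * F.B v e) • e := fun v => by
    change LinearMap.transvection (a • F.lf e) e v = _
    rw [LinearMap.transvection.apply]
    rfl
  have hTB : ∀ u v, F.B (T u) (T v) = F.B u v := by
    intro u v
    rw [hT, hT]
    simp only [F.B_add_left, F.B_add_right, F.B_smul_left, F.B_smul_right, map_mul, ha, hsym, hes.2]
    ring
  obtain ⟨g, hg⟩ := F.exists_iso T hTB fun v => by rw [hQ, hQ, hTB]
  have hgT : ∀ v, (g : V ≃ₗ[K] V) v = v + (a * F.B v e) • e := fun v => by rw [hg, hT]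
  have hpow : ∀ (k : ℕ) (v : V), ((g ^ k : F.iso) : V ≃ₗ[K] V) v = v + ((k : K) * (a * F.B v e)) • e := by
    intro k
    induction k with
    | zero =>
      intro v
      rw [Nat.cast_zero, zero_mul, zero_smul, add_zero, pow_zero]
      rfl
    | succ k ih =>
      intro v
      rw [pow_succ]
      change ((g ^ k : F.iso) : V ≃ₗ[K] V) ((g : V ≃ₗ[K] V) v) = _
      rw [ih, hgT, F.B_add_left, F.B_smul_left, hes.2, mul_zero, add_zero, Nat.cast_succ]
      module
  have hgp : g ^ p = 1 := by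
    apply Subtype.ext
    apply LinearEquiv.ext
    intro v
    rw [hpow, CharP.cast_eq_zero, zero_mul, zero_smul, add_zero]
    rfl
  letI := subAct F.iso.subtype (F.Om 1) F.Om_map
  let f : Function.End (F.Om 1) := fun W => g • W
  have hfpow : ∀ (k : ℕ) (W : F.Om 1), (f ^ k) W = g ^ k • W := by
    intro k
    induction k with
    | zero =>
      intro W
      rw [pow_zero, pow_zero, one_smul]
      rfl
    | succ k ih =>
      intro W
      rw [pow_succ, pow_succ, mul_smul, ← ih]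
      rfl
  have hf : f ^ p ^ 1 = 1 := by
    funext W
    rw [hfpow, pow_one, hgp, one_smul]
    rfl
  have h1 := Equiv.Perm.card_fixedPoints_modEq hf
  have hfix : ∀ W : F.Om 1, W ∈ Function.fixedPoints f ↔ W = ⟨W₀, hW₀⟩ := by
    intro W
    constructor
    · intro h
      have h2 : W.1.map (F.iso.subtype g : V →ₗ[K] V) = W.1 := congrArg Subtype.val (show g • W = W from h)
      by_contra hne
      have hne' : W.1 ≠ W₀ := fun h => hne (Subtype.ext h)
      have hopp := opp_of_ne F h3.le W.2 hW₀ hne'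
      let b : Basis (Fin 1) K W.1 := finBasisOfFinrankEq K W.1 W.2.2
      have hb0 : (b 0 : V) ≠ 0 := fun h => b.ne_zero 0 (Subtype.ext h)
      have h5 : F.B (b 0) e ≠ 0 := by
        intro h5
        have h6 : (b 0 : V) ∈ W.1 ⊓ F.perp W₀ := by
          refine ⟨(b 0).2, fun w hw => ?_⟩
          rw [← hspan] at hw
          obtain ⟨z, rfl⟩ := Submodule.mem_span_singleton.1 hw
          rw [F.B_smul_right, h5, mul_zero]
        rw [hopp] at h6
        exact hb0 ((Submodule.mem_bot K).1 h6)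
      have h6 : (g : V ≃ₗ[K] V) (b 0) ∈ W.1 := h2.le ⟨_, (b 0).2, rfl⟩
      rw [hgT] at h6
      have h7 : (a * F.B (b 0) e) • e ∈ W.1 := by
        have := W.1.sub_mem h6 (b 0).2
        rwa [add_sub_cancel_left] at this
      have h8 : e ∈ W.1 := (W.1.smul_mem_iff (mul_ne_zero ha0 h5)).1 h7
      apply hne'
      rw [← hspan]
      symm
      apply Submodule.eq_of_le_of_finrank_eq ((Submodule.span_singleton_le_iff_mem _ _).2 h8)
      rw [finrank_span_singleton he0, W.2.2]
    · rintro rfl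
      change g • (⟨W₀, hW₀⟩ : F.Om 1) = _
      apply Subtype.ext
      change W₀.map (F.iso.subtype g : V →ₗ[K] V) = W₀
      refine map_eq_of_le F.iso.subtype fun w hw => ?_
      change (g : V ≃ₗ[K] V) w ∈ W₀
      rw [hgT, hW₀.1.2 w hw e heW, mul_zero, zero_smul, add_zero]
      exact hw
  have h2 : Fintype.card (Function.fixedPoints f) = 1 := by
    rw [Fintype.card_eq_one_iff]
    refine ⟨⟨⟨W₀, hW₀⟩, (hfix _).2 rfl⟩, fun y => Subtype.ext ((hfix _).1 y.2)⟩
  rw [h2, ← Nat.card_eq_fintype_card] at h1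
  intro h
  have h3 : p ∣ 1 := (Nat.ModEq.dvd_iff h1 dvd_rfl).1 h
  exact (Fact.out : p.Prime).one_lt.ne' (Nat.dvd_one.1 h3)

end Cfsg.Agent.H476.OC
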