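import Cfsg.Agent.H476.OC.Arith
import Cfsg.Agent.H476.OC.Three
import Cfsg.Agent.H993.OC.Row
import Cfsg.Agent.H464.ExtQU
import Cfsg.Agent.H576.Ext.SemiL
import Cfsg.Agent.H328.Gow.RowPsu
import Cfsg.Agent.H161.PalForm

/-!
# S4891, defining characteristic: the row of `PSU_3` (helper476)

`ocRow_psu3` : `OCRow p (PSU 3 K q)`, `|K| = q²`, `p` odd.
-/

set_option autoImplicit false
set_option linter.style.haveILetI false

open scoped ComplexConjugate
open Cfsg

namespace Cfsg.Agent.H476.OC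

open Cfsg.Agent.OddOrderCharacters.Clifford Cfsg.Agent.Characters MulAction Module Cfsg.Agent.H53.HC
  Cfsg.Agent.H477.HC Cfsg.Agent.H477.HC.CForm Cfsg.Agent.H328.Gow Cfsg.Agent.H576.Ext Cfsg.Agent.H464.ExtR3
  Cfsg.Agent.H993.OC Cfsg.Agent.H145.BR

universe u v w

/-- descent along a surjective homomorphism -/
theorem exists_desc {N : Type u} {S : Type v} [Group N] [Finite N] [Group S] (f : N →* S)
    (hf : Function.Surjective f) {θ : N → ℂ} (hθ : IsIrrCharacter N θ) (hz : ∀ z, f z = 1 → θ z = θ 1) :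
    ∃ η : S → ℂ, IsIrrCharacter S η ∧ ∀ n, η (f n) = θ n := by
  obtain ⟨η, hη, hη'⟩ := exists_quot f.ker hθ fun z hz' => hz z hz'
  let e := QuotientGroup.quotientKerEquivOfSurjective f hf
  refine ⟨fun s => η (e.symm s), Core.isIrr_comp e.symm.toMonoidHom e.symm.surjective hη, fun n => ?_⟩
  have h1 : e.symm (f n) = (n : N ⧸ f.ker) := by
    rw [MulEquiv.symm_apply_eq]
    rfl
  change η (e.symm (f n)) = _
  rw [h1, hη']

section iter

variable {K : Type u} [Field K] {V : Type v} [AddCommGroup V] [Module K V] {F : CForm K V} {N : Subgroup F.iso}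
  {S : Type w} [Group S]

/-- powers of automorphisms induced by semisimilarities -/
theorem exists_iter {D : SemiQ F N S} {s : Semi F} {α : MulAut S} (h : D.Ind s α) (m : ℕ) :
    ∃ s' : Semi F, D.Ind s' (α ^ m) ∧ ∀ x, s'.τ x = s.τ^[m] x := by
  induction m with
  | zero =>
    refine ⟨isoS 1, ?_, fun x => rfl⟩
    have := ind_iso D 1
    rwa [map_one, map_one] at this
  | succ m ih =>
    obtain ⟨s', h1, h2⟩ := ih
    refine ⟨compS s' s, ?_, fun x => ?_⟩
    · rw [pow_succ]
      exact ind_comp h1 h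
    · rw [Function.iterate_succ_apply, ← h2]
      rfl

/-- a function on `S` fixed by a power prime to `p` of an automorphism of `p`-power order -/
theorem fix_of_pow {p m : ℕ} [Fact p.Prime] (hm : ¬ p ∣ m) {α : MulAut S} {j : ℕ} (hα : α ^ p ^ j = 1) {θ : S → ℂ}
    (h : ∀ x, θ ((α ^ m) x) = θ x) (x : S) : θ (α x) = θ x := by
  have hcop : Nat.Coprime (orderOf α) m := by
    have h1 : orderOf α ∣ p ^ j := orderOf_dvd_of_pow_eq_one hα
    refine Nat.Coprime.coprime_dvd_left h1 (Nat.Coprime.pow_left j ?_)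
    exact (Nat.Prime.coprime_iff_not_dvd Fact.out).2 hm
  obtain ⟨k, hk⟩ := exists_pow_eq_self_of_coprime hcop.symm
  have h2 : ∀ (k : ℕ) (x : S), θ (((α ^ m) ^ k) x) = θ x := by
    intro k
    induction k with
    | zero => intro x; rfl
    | succ k ih =>
      intro x
      rw [pow_succ, MulAut.mul_apply, ih, h]
  have h3 := h2 k x
  rwa [hk] at h3

end iter

/-- **the row of `PSU_3`** -/
theorem ocRow_psu3 {K : Type u} [Field K] [Fintype K] {p q : ℕ} [Fact p.Prime] [CharP K p] (hp2 : p ≠ 2)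
    (hF : Fintype.card K = q ^ 2) : OCRow p (PSU 3 K q) := by
  classical
  have hq : Nat.card K = q ^ 2 := by rw [Nat.card_eq_fintype_card, hF]
  obtain ⟨lam, n, m, hn0, hpn, hpm, hn, ⟨t, ht⟩, h3, hi⟩ := exists_lam K hp2 hq
  -- the field
  obtain ⟨f, hf⟩ : ∃ s, Nat.card K = p ^ s := by
    obtain ⟨n, -, h⟩ := FiniteField.card K p
    exact ⟨n, by rw [Nat.card_eq_fintype_card, h]⟩
  have hq2 : q ≠ 2 := by
    rintro rfl
    apply hp2
    have h1 : 2 ∣ p ^ f := by rw [← hf, hq]; exact ⟨2, rfl⟩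
    exact ((Nat.prime_dvd_prime_iff_eq Nat.prime_two Fact.out).1 (Nat.prime_two.dvd_of_dvd_pow h1)).symm
  have hfr : finrank K (Fin 3 → K) = 3 := finrank_fin_fun K
  have hfi := finite_iso (hermF K hq 3)
  let _ : Fintype (hermF K hq 3).iso := Fintype.ofFinite _
  have hfO : Finite ((hermF K hq 3).Om 1) := by
    have : Finite (Submodule K (Fin 3 → K)) :=
      Finite.of_injective (fun W : Submodule K (Fin 3 → K) => (W : Set (Fin 3 → K))) SetLike.coe_injective
    infer_instance
  let _ : Fintype ((hermF K hq 3).Om 1) := Fintype.ofFinite _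
  obtain ⟨W₀, hW₀⟩ : ∃ W₀, W₀ ∈ (hermF K hq 3).Om 1 := (hermF_frame (p := p) hq 1 1).1
  -- the character
  let c : GL (Fin 1) K → ℂ := fun A => ((lam.comp Matrix.GeneralLinearGroup.det) A : ℂ)
  have hcdef : ∀ A, c A = (lam (Matrix.GeneralLinearGroup.det A) : ℂ) := fun A => rfl
  have hc : IsIrrCharacter _ c := Linear.isIrrCharacter_hom (lam.comp Matrix.GeneralLinearGroup.det)
  have hcl := Core.isIrr_isClassFunction hc
  have hc1 : c 1 = 1 := by rw [hcdef, map_one, map_one, Units.val_one]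
  have hsc : ∀ z : Kˣ, c (Matrix.GeneralLinearGroup.scalar (Fin 1) z) = (lam z : ℂ) := fun z => by
    rw [hcdef, Matrix.GeneralLinearGroup.det_scalar, Fintype.card_fin, pow_one]
  have hirr : IsIrrCharacter (sg (hermF K hq 3)) (fun g : sg (hermF K hq 3) => hcf (hermF K hq 3) c g) := by
    refine isIrr_three (hermF K hq 3) hfr rfl (fun v => rfl) (hdet_herm hF hq 3) hc hc1 hW₀ (t := t) (t' := (t ^ q)⁻¹)
      ?_ ?_
    · rw [Units.val_inv_eq_inv_val, Units.val_pow_eq_pow_val]
      rfl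
    · rw [hsc, hsc]
      intro h
      apply ht
      have h1 : lam t = lam (t ^ q)⁻¹ := Units.ext h
      rw [map_inv, map_pow] at h1
      rw [pow_succ']
      exact eq_inv_iff_mul_eq_one.1 h1
  have hNs : sg (hermF K hq 3) = suN hq 3 := by
    ext g
    rw [mem_sg, mem_suN]
  rw [hNs] at hirr
  obtain ⟨D, hD⟩ := semiQ_psu (n := 3) hF hq le_rfl (fun h => hq2 h.2)
  have hone : hcf (hermF K hq 3) c 1 = (Nat.card ((hermF K hq 3).Om 1) : ℂ) := by
    rw [hcf_one _ hcl, hc1, mul_one]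
  -- descent
  obtain ⟨θ, hθ, hθ'⟩ := exists_desc D.q D.surj hirr (fun z hz => by
    obtain ⟨a, ha⟩ := (D.ker z).1 hz
    obtain ⟨W', hW', h0⟩ := (hermF K hq 3).exists_opp hW₀
    obtain ⟨b, b', hb⟩ := CForm.exists_dual_basis hW₀.2 hW'.2 h0
    have hbb : (hermF K hq 3).B (b 0) (b' 0) = 1 := by rw [hb, if_pos rfl]
    have h1 := (hermF K hq 3).iso_B (z : (hermF K hq 3).iso) (b 0) (b' 0)
    rw [ha, ha, (hermF K hq 3).B_smul_left, (hermF K hq 3).B_smul_right, hbb, mul_one] at h1
    have h2 : a * a ^ q = 1 := h1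
    have ha0 : a ≠ 0 := left_ne_zero_of_mul_eq_one h2
    have hdet : a ^ 3 = 1 := by
      have h4 := mem_suN.1 z.2
      have h5 : (((z : (hermF K hq 3).iso) : (Fin 3 → K) ≃ₗ[K] (Fin 3 → K)) : (Fin 3 → K) →ₗ[K] (Fin 3 → K)) =
          a • LinearMap.id := by
        apply LinearMap.ext
        intro v
        exact ha v
      rw [h5, LinearMap.det_smul, hfr, LinearMap.det_id, mul_one] at h4
      exact h4
    have h6 : lam (Units.mk0 a ha0) = 1 := by
      refine h3 _ (Units.ext hdet) (Units.ext ?_)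
      rw [Units.val_pow_eq_pow_val, Units.val_mk0, pow_succ', h2, Units.val_one]
    exact (hermF K hq 3).hc_scalar hcl (fun _ _ => 1) (a := Units.mk0 a ha0) ha (by rw [hsc, h6, hc1]; rfl)
      (fun _ _ => rfl))
  have hθ1 : θ 1 = (Nat.card ((hermF K hq 3).Om 1) : ℂ) := by
    rw [← map_one D.q, hθ', ← hone]
    rfl
  have hqodd : ∃ x, (hermF K hq 3).σ x ≠ x := by
    by_contra hno
    push Not at hno
    have hq2' := two_le_of_card hq
    obtain ⟨y, hy⟩ := IsCyclic.exists_generator (α := Kˣ)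
    have h1 : orderOf y = q ^ 2 - 1 := by
      rw [orderOf_eq_card_of_forall_mem_zpowers hy, Nat.card_units, hq]
    have h2 : y ^ q = y := Units.ext (hno y)
    have h4 : y ^ (q - 1) = 1 := by
      have h5 : y ^ (q - 1) * y = 1 * y := by
        rw [← pow_succ, Nat.sub_add_cancel (by omega), h2, one_mul]
      exact mul_right_cancel h5
    have h5 := Nat.le_of_dvd (by omega) (orderOf_dvd_of_pow_eq_one h4)
    rw [h1] at h5
    have h6 : q * 2 ≤ q ^ 2 := by rw [pow_two]; exact Nat.mul_le_mul_left q hq2'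
    omega
  have hpOm : ¬ p ∣ Nat.card ((hermF K hq 3).Om 1) :=
    card_mod (hermF K hq 3) hfr rfl (fun v => rfl) hqodd hW₀
  intro A hA
  refine ⟨θ, hθ, ?_, ⟨_, hθ1, hpOm⟩, ⟨n, hpn, fun g => ?_⟩, fun α hα x => ?_⟩
  · rintro rfl
    rw [Pi.one_apply] at hθ1
    exact card_Om_ne_one _ one_pos hW₀ (by exact_mod_cast hθ1.symm)
  · obtain ⟨g, rfl⟩ := D.surj g
    rw [hθ', hcf_apply]
    refine sum_mem fun W _ => ?_
    have hprim := Complex.isPrimitiveRoot_exp n hn0
    have hNZ : NeZero n := ⟨hn0⟩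
    by_cases h : W.1.map ((hermF K hq 3).iso.subtype g : (Fin 3 → K) →ₗ[K] (Fin 3 → K)) = W.1
    · rw [flagTerm_of _ c h, cl_eq hcl (finBasisOfFinrankEq K W.1 W.2.2), hcdef]
      have h1 : ((lam (Matrix.GeneralLinearGroup.det (glE (finBasisOfFinrankEq K W.1 W.2.2)
          (res ((hermF K hq 3).iso.subtype g) W.1 h))) : ℂˣ) : ℂ) ^ n = 1 := by
        rw [← Units.val_pow_eq_pow_val, hn, Units.val_one]
      obtain ⟨i, -, hi⟩ := hprim.eq_pow_of_pow_eq_one h1
      rw [← hi]
      exact pow_mem (IntermediateField.mem_adjoin_simple_self ℚ _) i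
    · rw [flagTerm_not _ c h]
      exact zero_mem _
  · obtain ⟨j, hj⟩ := hA ⟨α, hα⟩
    refine fix_of_pow hpm (congrArg Subtype.val hj) (fun x => ?_) x
    obtain ⟨s, hs⟩ := hD α
    obtain ⟨s', hs', hτ⟩ := exists_iter hs m
    obtain ⟨g, rfl⟩ := D.surj x
    obtain ⟨g', hg'⟩ := D.inv s' g
    rw [hs' g g' hg', hθ', hθ']
    have hlam : s'.lam ≠ 0 := s'.hlam
    have h1 := hc_semi (hermF K hq 3) hcl s'.τ s'.γ s'.smul (fun v w => by
      rw [s'.hB, mul_eq_zero, or_iff_right hlam, map_eq_zero_iff _ s'.τ.injective]) (fun v => by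
      rw [s'.hQ, mul_eq_zero, or_iff_right hlam, map_eq_zero_iff _ s'.τ.injective]) (g : (hermF K hq 3).iso)
      (g' : (hermF K hq 3).iso) hg'
    refine h1.trans ?_
    have h2 : fmap (s'.τ : K →+* K) c = c := by
      obtain ⟨i, -, hi'⟩ := H161.PalForm.frob Fact.out hf (s.τ : K →+* K)
      have h4 : ∀ (l : ℕ) (x : K), s.τ^[l] x = x ^ p ^ (i * l) := by
        intro l
        induction l with
        | zero => intro x; rw [mul_zero, pow_zero, pow_one]; rfl
        | succ l ih =>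
          intro x
          rw [Function.iterate_succ_apply, ih]
          have h5 : s.τ x = x ^ p ^ i := hi' x
          rw [h5, ← pow_mul, ← pow_add]
          congr 2
          ring
      funext A
      change c (Matrix.GeneralLinearGroup.map (s'.τ : K →+* K) A) = c A
      rw [hcdef, hcdef]
      have h5 : Matrix.GeneralLinearGroup.det (Matrix.GeneralLinearGroup.map (s'.τ : K →+* K) A) =
          (Matrix.GeneralLinearGroup.det A) ^ p ^ (i * m) := by
        rw [Matrix.GeneralLinearGroup.map_det]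
        apply Units.ext
        rw [Units.val_pow_eq_pow_val, ← h4 m, ← hτ]
        rfl
      rw [h5, hi]
    rw [h2]
    rfl

end Cfsg.Agent.H476.OC
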